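import Mathlib.RingTheory.IsTensorProduct
import Mathlib.RingTheory.TensorProduct.Free
import Mathlib.RingTheory.Flat.FaithfullyFlat.Basic
import Mathlib.RingTheory.Flat.FaithfullyFlat.Algebra
import Mathlib.RingTheory.Etale.Descent

/-!
# Descending étaleness along a faithfully flat map, with the help of bases

`etale_of_basis`: given a square `P → A → M`, `Ps → T → S` in which both `A → T` and `M → S` are base changes
of `P → Ps` (witnessed by bases), étaleness of `S` over `T` implies étaleness of `M` over `A`.
-/

set_option autoImplicit false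

namespace Groth.Agent.Pi1.H388.BasisBC

open Module TensorProduct

section

variable {R S M N ι : Type*} [CommRing R] [CommRing S] [Algebra R S] [AddCommGroup M] [Module R M]
  [AddCommGroup N] [Module R N] [Module S N] [IsScalarTower R S N]

theorem linearIndependent_of_basis (hinj : Function.Injective (algebraMap R S)) (f : M →ₗ[R] N)
    (b : ι → M) (c : Basis ι S N) (hc : ∀ i, c i = f (b i)) : LinearIndependent R b := by
  refine LinearIndependent.of_comp f ?_
  have h1 : (f ∘ b) = c := by ext i; exact (hc i).symm
  rw [h1]
  have : FaithfulSMul R S := (faithfulSMul_iff_algebraMap_injective R S).mpr hinj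
  exact c.linearIndependent.restrict_scalars' R

theorem isBaseChange_of_basis (hinj : Function.Injective (algebraMap R S)) (f : M →ₗ[R] N)
    (b : ι → M) (hb : Submodule.span R (Set.range b) = ⊤) (c : Basis ι S N) (hc : ∀ i, c i = f (b i)) :
    IsBaseChange S f := by
  let b' : Basis ι R M := Basis.mk (linearIndependent_of_basis hinj f b c hc) hb.ge
  have hb' : ∀ i, b' i = b i := fun i => by simp [b']
  let e : S ⊗[R] M ≃ₗ[S] N := (Algebra.TensorProduct.basis S b').equiv c (Equiv.refl ι)
  refine IsBaseChange.of_equiv e fun x => ?_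
  have h : (e.toLinearMap.restrictScalars R) ∘ₗ (TensorProduct.mk R S M 1) = f := by
    refine b'.ext fun i => ?_
    change e (1 ⊗ₜ b' i) = f (b' i)
    have h1 : e (Algebra.TensorProduct.basis S b' i) = c i := Basis.equiv_apply _ i c (Equiv.refl ι)
    rw [Algebra.TensorProduct.basis_apply] at h1
    rw [h1, hb', hc]
  exact LinearMap.congr_fun h x

end

variable {P Ps A T M S ι κ : Type*} [CommRing P] [CommRing Ps] [CommRing A] [CommRing T] [CommRing M]
  [CommRing S] [Algebra P Ps] [Algebra P A] [Algebra P T] [Algebra P M] [Algebra P S] [Algebra Ps T]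
  [Algebra Ps S] [Algebra A T] [Algebra A M] [Algebra A S] [Algebra T S] [Algebra M S]
  [IsScalarTower P Ps T] [IsScalarTower P A T] [IsScalarTower P A M] [IsScalarTower P Ps S]
  [IsScalarTower P M S] [IsScalarTower Ps T S] [IsScalarTower A T S] [IsScalarTower A M S]
  [IsScalarTower P T S]

theorem isPushout_left (hinj : Function.Injective (algebraMap P Ps)) (a : ι → A)
    (ha : Submodule.span P (Set.range a) = ⊤) (aT : Basis ι Ps T) (haT : ∀ l, aT l = algebraMap A T (a l)) :
    Algebra.IsPushout P Ps A T :=
  ⟨isBaseChange_of_basis hinj _ a ha aT haT⟩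

/-- The base change of a faithfully flat map is faithfully flat. -/
theorem faithfullyFlat (hff : Module.FaithfullyFlat P Ps) (h : Algebra.IsPushout P Ps A T) :
    Module.FaithfullyFlat A T := by
  have h' : Algebra.IsPushout P A Ps T := h.symm
  exact Module.FaithfullyFlat.of_linearEquiv A (A ⊗[P] Ps) h'.equiv.symm.toLinearEquiv

theorem etale_of_isPushout (hff : Module.FaithfullyFlat P Ps) (h : Algebra.IsPushout P Ps A T)
    (h' : Algebra.IsPushout P Ps M S) [Algebra.Etale T S] : Algebra.Etale A M := by
  have h1 : Module.FaithfullyFlat A T := faithfullyFlat hff h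
  have h2 : Algebra.IsPushout P A Ps T := h.symm
  have h3 : Algebra.IsPushout P M Ps S := h'.symm
  have h4 : Algebra.IsPushout A M T S := (Algebra.IsPushout.comp_iff P A Ps T).mp h3
  have h5 : Algebra.IsPushout A T M S := h4.symm
  have : Algebra.Etale T (T ⊗[A] M) := Algebra.Etale.of_equiv h5.equiv.symm
  exact Algebra.Etale.of_etale_tensorProduct_of_faithfullyFlat T

end Groth.Agent.Pi1.H388.BasisBC
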