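import Groth.Agent.Pi1.H388.UProd
import Mathlib.RingTheory.Unramified.Finite
import Mathlib.RingTheory.Smooth.Fiber
import Mathlib.RingTheory.Smooth.Flat
import Mathlib.RingTheory.Finiteness.ModuleFinitePresentation
import Mathlib.RingTheory.RingHom.Etale

/-!
# Ultraproducts of finite étale algebras

A reduced product of finite étale algebras generated by a bounded number of elements is finite étale over
the reduced product of the base rings.
-/

set_option autoImplicit false

universe u v

namespace Groth.Agent.Pi1.H388.EtaleU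

open TensorProduct Algebra

section cert

variable {A : Type u} {B : Type v} [CommRing A] [CommRing B] [Algebra A B] {ι : Type*} [Fintype ι]

/-- A finite étale algebra has a certificate. -/
theorem exists_cert [Module.Finite A B] [Algebra.Etale A B] (b : ι → B)
    (hb : Submodule.span A (Set.range b) = ⊤) :
    ∃ (φ : ι → B →ₗ[A] A) (c : ι → B), (∀ x, ∑ j, φ j x • b j = x) ∧ ∑ j, b j * c j = 1 ∧
      ∀ s l, ∑ j, φ l (b j) • (s * c j) = ∑ j, φ l (s * b j) • c j := by
  classical
  have hfp : Module.FinitePresentation A B :=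
    Module.FinitePresentation.of_finite_of_finitePresentation A B
  have hpr : Module.Projective A B := Module.Flat.projective_of_finitePresentation
  let p : (ι → A) →ₗ[A] B := Fintype.linearCombination A b
  have hp : Function.Surjective p := by
    rw [← LinearMap.range_eq_top, Fintype.range_linearCombination, hb]
  obtain ⟨g, hg⟩ := Module.projective_lifting_property p LinearMap.id hp
  let φ : ι → B →ₗ[A] A := fun l => (LinearMap.proj l).comp g
  have hφ : ∀ x, ∑ j, φ j x • b j = x := fun x => LinearMap.congr_fun hg x
  obtain ⟨t, ht, ht1⟩ := (FormallyUnramified.iff_exists_tensorProduct (R := A) (S := B)).mp inferInstance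
  -- the contraction
  let κ : ι → B ⊗[A] B →ₗ[A] B := fun l => TensorProduct.lid A B ∘ₗ (φ l).rTensor B
  have hκ : ∀ l x y, κ l (x ⊗ₜ y) = φ l x • y := fun l x y => by simp [κ]
  let c : ι → B := fun l => κ l t
  have ht' : ∀ z : B ⊗[A] B, ∑ j, b j ⊗ₜ[A] κ j z = z := by
    intro z
    induction z with
    | zero => simp
    | tmul x y =>
      simp only [hκ, TensorProduct.tmul_smul]
      simp only [TensorProduct.smul_tmul', ← TensorProduct.sum_tmul]
      rw [hφ]
    | add x y hx hy =>
      simp only [map_add, TensorProduct.tmul_add, Finset.sum_add_distrib]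
      rw [hx, hy]
  refine ⟨φ, c, hφ, ?_, ?_⟩
  · have h1 := ht1
    rw [← ht' t, map_sum] at h1
    simpa [Algebra.TensorProduct.lmul'_apply_tmul] using h1
  · intro s l
    have h1 : κ l (((1 : B) ⊗ₜ[A] s) * t) = κ l ((s ⊗ₜ[A] (1 : B)) * t) := by
      have := ht s
      rw [sub_mul, sub_eq_zero] at this
      rw [this]
    rw [← ht' t, Finset.mul_sum, Finset.mul_sum, map_sum, map_sum] at h1
    simpa [Algebra.TensorProduct.tmul_mul_tmul, hκ] using h1

/-- An algebra with a certificate is finite étale. -/
theorem etale_of_cert (b : ι → B) (φ : ι → B →ₗ[A] A) (c : ι → B) (hφ : ∀ x, ∑ j, φ j x • b j = x)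
    (h1 : ∑ j, b j * c j = 1) (h2 : ∀ s l, ∑ j, φ l (b j) • (s * c j) = ∑ j, φ l (s * b j) • c j) :
    Module.Finite A B ∧ Algebra.Etale A B := by
  classical
  let p : (ι → A) →ₗ[A] B := Fintype.linearCombination A b
  let g : B →ₗ[A] (ι → A) := LinearMap.pi φ
  have hpg : p ∘ₗ g = LinearMap.id := LinearMap.ext hφ
  have hfin : Module.Finite A B := Module.Finite.of_surjective p fun x => ⟨g x, LinearMap.congr_fun hpg x⟩
  have hpr : Module.Projective A B := Module.Projective.of_split g p hpg
  have hfp : Module.FinitePresentation A B := Module.finitePresentation_of_projective A B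
  have hafp : Algebra.FinitePresentation A B := Algebra.FinitePresentation.of_finitePresentation A B
  refine ⟨hfin, ?_⟩
  have hunr : FormallyUnramified A B := by
    rw [FormallyUnramified.iff_exists_tensorProduct]
    refine ⟨∑ j, b j ⊗ₜ c j, fun s => ?_, ?_⟩
    · rw [sub_mul, sub_eq_zero, Finset.mul_sum, Finset.mul_sum]
      simp only [Algebra.TensorProduct.tmul_mul_tmul, one_mul]
      have key : ∀ z : ι → B, ∑ l, b l ⊗ₜ[A] (∑ j, φ l (b j) • z j) = ∑ j, b j ⊗ₜ[A] z j := by
        intro z
        simp only [TensorProduct.tmul_sum, TensorProduct.tmul_smul]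
        rw [Finset.sum_comm]
        refine Finset.sum_congr rfl fun j _ => ?_
        simp only [TensorProduct.smul_tmul', ← TensorProduct.sum_tmul]
        rw [hφ]
      have key2 : ∑ l, b l ⊗ₜ[A] (∑ j, φ l (s * b j) • c j) = ∑ j, (s * b j) ⊗ₜ[A] c j := by
        simp only [TensorProduct.tmul_sum, TensorProduct.tmul_smul]
        rw [Finset.sum_comm]
        refine Finset.sum_congr rfl fun j _ => ?_
        simp only [TensorProduct.smul_tmul', ← TensorProduct.sum_tmul]
        rw [hφ]
      rw [← key2, ← key]
      refine Finset.sum_congr rfl fun l _ => ?_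
      rw [h2]
    · rw [map_sum]
      simpa [Algebra.TensorProduct.lmul'_apply_tmul] using h1
  exact Etale.of_formallyUnramified_of_flat

end cert

open UProd

variable {I : Type} (U : Filter I) {A : I → Type u} {B : I → Type v} [∀ i, CommRing (A i)]
  [∀ i, CommRing (B i)] [∀ i, Algebra (A i) (B i)]

/-- A reduced product of finite étale algebras generated by a bounded number of elements is finite
étale. -/
theorem etale_map (N : ℕ) [∀ i, Module.Finite (A i) (B i)] [∀ i, Algebra.Etale (A i) (B i)]
    (b : ∀ i, Fin N → B i) (hb : ∀ i, Submodule.span (A i) (Set.range (b i)) = ⊤) :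
    (UProd.map U fun i => algebraMap (A i) (B i)).Finite ∧
      (UProd.map U fun i => algebraMap (A i) (B i)).Etale := by
  choose φ c h0 h1 h2 using fun i => exists_cert (A := A i) (B := B i) (b i) (hb i)
  algebraize [UProd.map U fun i => algebraMap (A i) (B i)]
  have hsmul : ∀ (a : ∀ i, A i) (x : ∀ i, B i), mk U a • mk U x = mk U fun i => a i • x i := by
    intro a x
    rw [Algebra.smul_def]
    change UProd.map U (fun i => algebraMap (A i) (B i)) (mk U a) * mk U x = _
    rw [map_mk, mk_mul]
    congr 1
    ext i
    rw [Algebra.smul_def]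
  let Φ : Fin N → UProd U B →ₗ[UProd U A] UProd U A := fun l =>
    { toFun := fn U fun i => φ i l
      map_add' := fun x y => by
        obtain ⟨x, rfl⟩ := mk_surjective U x
        obtain ⟨y, rfl⟩ := mk_surjective U y
        rw [mk_add, fn_mk, fn_mk, fn_mk, mk_add]
        congr 1; ext i; simp
      map_smul' := fun a x => by
        obtain ⟨a, rfl⟩ := mk_surjective U a
        obtain ⟨x, rfl⟩ := mk_surjective U x
        rw [hsmul, fn_mk, fn_mk, RingHom.id_apply, smul_eq_mul, mk_mul]
        congr 1; ext i; simp }
  have hΦ : ∀ l (x : ∀ i, B i), Φ l (mk U x) = mk U fun i => φ i l (x i) := fun l x => fn_mk U _ x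
  obtain ⟨h3, h4⟩ := etale_of_cert (A := UProd U A) (B := UProd U B) (fun j => mk U fun i => b i j) Φ
    (fun j => mk U fun i => c i j) (fun x => by
      obtain ⟨x, rfl⟩ := mk_surjective U x
      simp only [hΦ, hsmul]
      rw [mk_sum]
      congr 1
      ext i
      exact h0 i (x i)) (by
      simp only [mk_mul]
      rw [mk_sum, ← mk_one]
      congr 1
      ext i
      exact h1 i) (fun s l => by
      obtain ⟨s, rfl⟩ := mk_surjective U s
      simp only [hΦ, hsmul, mk_mul]
      rw [mk_sum, mk_sum]
      congr 1
      ext i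
      exact h2 i (s i) l)
  exact ⟨h3, h4⟩

end Groth.Agent.Pi1.H388.EtaleU
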