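import Mathlib.LinearAlgebra.Determinant
import Mathlib.Algebra.Polynomial.Degree.Lemmas
import Mathlib.Algebra.Polynomial.FieldDivision

/-!
# Reduced bases of lattices over a polynomial ring

`exists_reduced`: a free `k[X]`-module of finite rank with a "pole order" function `d` has a basis `b`
such that `d x` bounds `natDegree p_j + d (b_j)` for the coordinates `p_j` of `x`.
-/

set_option autoImplicit false

namespace Groth.Agent.Pi1.H388.Red

open Polynomial Module

variable {k : Type*} [Field k] {V : Type*} [AddCommGroup V] [Module k[X] V]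

/-- a pole order function -/
structure DegFun (k : Type*) [Field k] {V : Type*} [AddCommGroup V] [Module k[X] V] (d : V → ℕ) : Prop where
  zero : d 0 = 0
  add : ∀ x y, d (x + y) ≤ max (d x) (d y)
  smul : ∀ (c : k) (x : V), d ((C c : k[X]) • x) ≤ d x
  X_smul : ∀ x : V, x ≠ 0 → d ((X : k[X]) • x) = d x + 1

variable {d : V → ℕ}

namespace DegFun

variable (hd : DegFun k d)
include hd

theorem sum {ι : Type*} (s : Finset ι) (f : ι → V) (e : ℕ) (h : ∀ i ∈ s, d (f i) ≤ e) :
    d (∑ i ∈ s, f i) ≤ e := by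
  classical
  induction s using Finset.induction_on with
  | empty => simp [hd.zero]
  | insert a s ha ih =>
    rw [Finset.sum_insert ha]
    refine (hd.add _ _).trans (max_le (h a (Finset.mem_insert_self a s)) (ih fun i hi => h i ?_))
    exact Finset.mem_insert_of_mem hi

theorem neg (x : V) : d (-x) ≤ d x := by
  have h := hd.smul (-1) x
  rwa [map_neg, C_1, neg_smul, one_smul] at h

theorem sub (x y : V) : d (x - y) ≤ max (d x) (d y) := by
  rw [sub_eq_add_neg]
  exact (hd.add _ _).trans (max_le_max le_rfl (hd.neg y))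

theorem X_pow_smul_le (n : ℕ) (x : V) : d ((X : k[X]) ^ n • x) ≤ n + d x := by
  induction n with
  | zero => simp
  | succ n ih =>
    by_cases h : (X : k[X]) ^ n • x = 0
    · rw [pow_succ', mul_smul, h, smul_zero, hd.zero]; exact Nat.zero_le _
    · rw [pow_succ', mul_smul, hd.X_smul _ h]; omega

theorem smul_le (q : k[X]) (x : V) : d (q • x) ≤ q.natDegree + d x := by
  conv_lhs => rw [q.as_sum_range, Finset.sum_smul]
  refine hd.sum _ _ _ fun i hi => ?_
  rw [← C_mul_X_pow_eq_monomial, mul_smul]
  refine (hd.smul _ _).trans ((hd.X_pow_smul_le i x).trans ?_)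
  rw [Finset.mem_range] at hi
  omega

theorem X_pow_smul [IsTorsionFree k[X] V] (n : ℕ) (x : V) (hx : x ≠ 0) :
    d ((X : k[X]) ^ n • x) = n + d x := by
  induction n with
  | zero => simp
  | succ n ih =>
    have h : (X : k[X]) ^ n • x ≠ 0 := smul_ne_zero (pow_ne_zero _ X_ne_zero) hx
    rw [pow_succ', mul_smul, hd.X_smul _ h, ih]; omega

end DegFun

variable {ι : Type*} [Fintype ι]

/-- replacing a basis vector -/
theorem exists_update [DecidableEq ι] (b : Basis ι k[X] V) (j₀ : ι) (a : ι → k[X]) (ha : IsUnit (a j₀)) :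
    ∃ b' : Basis ι k[X] V, ⇑b' = Function.update ⇑b j₀ (∑ j, a j • b j) := by
  have h : b.det (Function.update ⇑b j₀ (∑ j, a j • b j)) = a j₀ := by
    rw [AlternatingMap.map_update_sum]
    rw [Finset.sum_eq_single j₀]
    · rw [AlternatingMap.map_update_smul, Function.update_eq_self, Basis.det_self, smul_eq_mul, mul_one]
    · intro j _ hj
      rw [AlternatingMap.map_update_smul, AlternatingMap.map_update_self _ _ (Ne.symm hj), smul_zero]
    · intro h; exact absurd (Finset.mem_univ _) h
  have hu : IsUnit (b.det (Function.update ⇑b j₀ (∑ j, a j • b j))) := h ▸ ha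
  obtain ⟨h1, h2⟩ := (Module.Basis.is_basis_iff_det b).2 hu
  exact ⟨Basis.mk h1 h2.ge, Basis.coe_mk _ _⟩

theorem exists_minimal (d : V → ℕ) (b₀ : Basis ι k[X] V) :
    ∃ b : Basis ι k[X] V, ∀ b' : Basis ι k[X] V, ∑ j, d (b j) ≤ ∑ j, d (b' j) := by
  classical
  have hne : ∃ n, ∃ b : Basis ι k[X] V, ∑ j, d (b j) = n := ⟨_, b₀, rfl⟩
  obtain ⟨b, hb⟩ := Nat.find_spec hne
  refine ⟨b, fun b' => ?_⟩
  rw [hb]
  exact Nat.find_min' hne ⟨b', rfl⟩

/-- leading terms of a minimal basis are independent -/
theorem lead (hd : DegFun k d) (b : Basis ι k[X] V)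
    (hb : ∀ b' : Basis ι k[X] V, ∑ j, d (b j) ≤ ∑ j, d (b' j)) (c : ι → k) (e : ℕ)
    (he : ∀ j, c j ≠ 0 → d (b j) ≤ e) (j₀ : ι) (hc : c j₀ ≠ 0) (hj₀ : d (b j₀) = e) :
    e ≤ d (∑ j, (C (c j) * X ^ (e - d (b j)) : k[X]) • b j) := by
  classical
  by_contra hlt
  push Not at hlt
  obtain ⟨b', hb'⟩ := exists_update b j₀ (fun j => (C (c j) * X ^ (e - d (b j)) : k[X])) (by
    rw [hj₀, Nat.sub_self, pow_zero, mul_one]
    exact isUnit_C.mpr (isUnit_iff_ne_zero.mpr hc))
  have h1 := hb b'
  have h2 : ∑ j, d (b' j) < ∑ j, d (b j) := by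
    refine Finset.sum_lt_sum (fun j _ => ?_) ⟨j₀, Finset.mem_univ _, ?_⟩
    · rw [hb']
      by_cases hj : j = j₀
      · subst hj
        rw [Function.update_self, hj₀]
        exact hlt.le
      · rw [Function.update_of_ne hj]
    · rw [hb', Function.update_self, hj₀]
      exact hlt
  omega

theorem exists_reduced (hd : DegFun k d) (b₀ : Basis ι k[X] V) :
    ∃ b : Basis ι k[X] V, ∀ x j, b.repr x j ≠ 0 → (b.repr x j).natDegree + d (b j) ≤ d x := by
  classical
  obtain ⟨b, hb⟩ := exists_minimal d b₀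
  have : IsTorsionFree k[X] V := by
    have := Module.Free.of_basis b
    infer_instance
  refine ⟨b, fun x j hj => ?_⟩
  let p : ι → k[X] := fun j => b.repr x j
  have hx : x = ∑ j, p j • b j := (b.sum_repr x).symm
  -- the maximal total degree
  let J : Finset ι := Finset.univ.filter fun j => p j ≠ 0
  have hJ : J.Nonempty := ⟨j, by simpa [J, p] using hj⟩
  obtain ⟨j₁, hj₁, hmax⟩ := J.exists_max_image (fun j => (p j).natDegree + d (b j)) hJ
  set e := (p j₁).natDegree + d (b j₁) with he
  have hle : ∀ j, p j ≠ 0 → (p j).natDegree + d (b j) ≤ e := fun j hj =>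
    hmax j (by simpa [J] using hj)
  refine (hle j hj).trans ?_
  rcases Nat.eq_zero_or_pos e with he0 | hepos
  · rw [he0]; exact Nat.zero_le _
  -- leading coefficients
  let c : ι → k := fun j => if d (b j) ≤ e then (p j).coeff (e - d (b j)) else 0
  have hc₁ : c j₁ ≠ 0 := by
    have h1 : d (b j₁) ≤ e := by omega
    have h2 : e - d (b j₁) = (p j₁).natDegree := by omega
    simp only [c, if_pos h1, h2]
    have h3 : p j₁ ≠ 0 := by simpa [J] using hj₁
    exact leadingCoeff_ne_zero.mpr h3
  have hc : ∀ j, c j ≠ 0 → d (b j) ≤ e := fun j hj => by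
    by_contra h
    exact hj (if_neg h)
  let J' : Finset ι := Finset.univ.filter fun j => c j ≠ 0
  have hJ' : J'.Nonempty := ⟨j₁, by simpa [J'] using hc₁⟩
  obtain ⟨j₂, hj₂, hmax'⟩ := J'.exists_max_image (fun j => d (b j)) hJ'
  have hc₂ : c j₂ ≠ 0 := by simpa [J'] using hj₂
  have he' : d (b j₂) ≤ e := hc j₂ hc₂
  set e' := d (b j₂) with he'def
  set y := ∑ j, (C (c j) * X ^ (e' - d (b j)) : k[X]) • b j with hy
  have hlead : e' ≤ d y :=
    lead hd b hb c e' (fun j hj => hmax' j (by simpa [J'] using hj)) j₂ hc₂ rfl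
  have hy0 : y ≠ 0 := by
    intro h0
    have h1 : b.repr y j₂ = C (c j₂) * X ^ (e' - d (b j₂)) := by
      rw [hy, b.repr_sum_self]
    rw [h0, map_zero, Finsupp.zero_apply, ← he'def, Nat.sub_self, pow_zero, mul_one] at h1
    exact hc₂ (C_eq_zero.mp h1.symm)
  have hXy : e ≤ d ((X : k[X]) ^ (e - e') • y) := by
    rw [hd.X_pow_smul _ _ hy0]
    omega
  -- the remainder
  have hr : d (x - (X : k[X]) ^ (e - e') • y) ≤ e - 1 := by
    have h1 : x - (X : k[X]) ^ (e - e') • y = ∑ j, (p j - C (c j) * X ^ (e - d (b j))) • b j := by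
      conv_lhs => rw [hx, hy]
      rw [Finset.smul_sum, ← Finset.sum_sub_distrib]
      refine Finset.sum_congr rfl fun j _ => ?_
      rw [sub_smul, smul_smul]
      congr 2
      by_cases hcj : c j = 0
      · rw [hcj]; simp
      · have h2 : d (b j) ≤ e' := hmax' j (by simpa [J'] using hcj)
        rw [mul_left_comm, ← pow_add]
        congr 3
        omega
    rw [h1]
    refine hd.sum _ _ _ fun j _ => ?_
    by_cases hq : p j - C (c j) * X ^ (e - d (b j)) = 0
    · rw [hq, zero_smul, hd.zero]; exact Nat.zero_le _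
    · refine (hd.smul_le _ _).trans ?_
      by_cases hdj : d (b j) ≤ e
      · have hcj : c j = (p j).coeff (e - d (b j)) := if_pos hdj
        -- degree drops
        have hdeg : (p j).natDegree ≤ e - d (b j) := by
          by_cases hp0 : p j = 0
          · rw [hp0]; simp
          · have := hle j hp0
            omega
        have h3 : (p j - C (c j) * X ^ (e - d (b j))).degree < ((e - d (b j) : ℕ) : WithBot ℕ) := by
          rw [degree_lt_iff_coeff_zero]
          intro m hm
          rw [coeff_sub, coeff_C_mul_X_pow]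
          rcases hm.lt_or_eq with h | h
          · rw [if_neg (by omega), coeff_eq_zero_of_natDegree_lt (by omega), sub_zero]
          · rw [if_pos h.symm, hcj, h, sub_self]
        rw [degree_eq_natDegree hq] at h3
        have h4 : (p j - C (c j) * X ^ (e - d (b j))).natDegree < e - d (b j) := by exact_mod_cast h3
        omega
      · exfalso
        have hcj : c j = 0 := if_neg hdj
        rw [hcj, map_zero, zero_mul, sub_zero] at hq
        have := hle j hq
        omega
  by_contra hlt
  push Not at hlt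
  have h1 : (X : k[X]) ^ (e - e') • y = x - (x - (X : k[X]) ^ (e - e') • y) := by abel
  have h2 : d ((X : k[X]) ^ (e - e') • y) ≤ max (d x) (d (x - (X : k[X]) ^ (e - e') • y)) := by
    conv_lhs => rw [h1]
    exact hd.sub _ _
  have h3 : max (d x) (d (x - (X : k[X]) ^ (e - e') • y)) ≤ e - 1 := max_le (by omega) hr
  omega

end Groth.Agent.Pi1.H388.Red
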