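import Mathlib.Order.Filter.Ultrafilter.Defs
import Mathlib.RingTheory.Ideal.Quotient.Basic
import Mathlib.RingTheory.Ideal.Quotient.Defs
import Mathlib.RingTheory.Flat.TorsionFree
import Mathlib.RingTheory.Flat.FaithfullyFlat.Algebra
import Mathlib.RingTheory.RingHom.FaithfullyFlat
import Mathlib.FieldTheory.IsAlgClosed.Basic
import Mathlib.Algebra.Polynomial.FieldDivision

/-!
# Ultraproducts of commutative rings
-/

set_option autoImplicit false

universe u v w

namespace Groth.Agent.Pi1.H388.UProd

open Polynomial Filter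

section basic

variable {I : Type} (U : Filter I) (B : I → Type u) [∀ i, CommRing (B i)]

/-- the ideal of families vanishing almost everywhere -/
def zeroIdeal : Ideal (∀ i, B i) where
  carrier := {x | ∀ᶠ i in U, x i = 0}
  zero_mem' := Filter.Eventually.of_forall fun _ => rfl
  add_mem' hx hy := by
    filter_upwards [hx, hy] with i h1 h2
    rw [Pi.add_apply, h1, h2, add_zero]
  smul_mem' c x hx := by
    filter_upwards [hx] with i h
    rw [smul_eq_mul, Pi.mul_apply, h, mul_zero]

/-- the reduced product of a family of rings -/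
def UProd : Type u := (∀ i, B i) ⧸ zeroIdeal U B

noncomputable instance : CommRing (UProd U B) := inferInstanceAs (CommRing ((∀ i, B i) ⧸ zeroIdeal U B))

variable {B}

/-- the class of a family -/
noncomputable def mk : (∀ i, B i) →+* UProd U B := Ideal.Quotient.mk (zeroIdeal U B)

theorem mk_surjective : Function.Surjective (mk U (B := B)) := Ideal.Quotient.mk_surjective

theorem mk_eq_zero_iff {x : ∀ i, B i} : mk U x = 0 ↔ ∀ᶠ i in U, x i = 0 :=
  Ideal.Quotient.eq_zero_iff_mem

theorem mk_eq_mk_iff {x y : ∀ i, B i} : mk U x = mk U y ↔ ∀ᶠ i in U, x i = y i := by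
  rw [← sub_eq_zero, ← map_sub, mk_eq_zero_iff]
  simp only [Pi.sub_apply, sub_eq_zero]

theorem mk_sum {ι : Type*} (s : Finset ι) (f : ι → ∀ i, B i) :
    ∑ j ∈ s, mk U (f j) = mk U (fun i => ∑ j ∈ s, f j i) := by
  rw [← map_sum]
  congr 1
  ext i
  rw [Finset.sum_apply]

theorem mk_mul (x y : ∀ i, B i) : mk U x * mk U y = mk U (fun i => x i * y i) := (map_mul _ _ _).symm

theorem mk_add (x y : ∀ i, B i) : mk U x + mk U y = mk U (fun i => x i + y i) := (map_add _ _ _).symm

theorem mk_one : mk U (fun i => (1 : B i)) = 1 := map_one _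

theorem mk_zero : mk U (fun i => (0 : B i)) = 0 := map_zero _

/-- a chosen representative -/
noncomputable def rep (x : UProd U B) : ∀ i, B i := (mk_surjective U x).choose

@[simp]
theorem mk_rep (x : UProd U B) : mk U (rep U x) = x := (mk_surjective U x).choose_spec

variable {C : I → Type v} [∀ i, CommRing (C i)]

/-- the map induced by a family of maps -/
noncomputable def fn (f : ∀ i, B i → C i) (x : UProd U B) : UProd U C := mk U fun i => f i (rep U x i)

theorem fn_mk (f : ∀ i, B i → C i) (x : ∀ i, B i) : fn U f (mk U x) = mk U fun i => f i (x i) := by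
  rw [fn, mk_eq_mk_iff]
  have h := (mk_eq_mk_iff U).1 (mk_rep U (mk U x))
  filter_upwards [h] with i hi
  rw [hi]

/-- the ring homomorphism induced by a family of ring homomorphisms -/
noncomputable def map (f : ∀ i, B i →+* C i) : UProd U B →+* UProd U C where
  toFun := fn U fun i => f i
  map_one' := by
    rw [← map_one (mk U), fn_mk, ← map_one (mk U)]
    congr 1; ext i; simp
  map_zero' := by
    rw [← map_zero (mk U), fn_mk, ← map_zero (mk U)]
    congr 1; ext i; simp
  map_mul' x y := by
    obtain ⟨x, rfl⟩ := mk_surjective U x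
    obtain ⟨y, rfl⟩ := mk_surjective U y
    rw [← map_mul, fn_mk, fn_mk, fn_mk, ← map_mul]
    congr 1; ext i; simp
  map_add' x y := by
    obtain ⟨x, rfl⟩ := mk_surjective U x
    obtain ⟨y, rfl⟩ := mk_surjective U y
    rw [← map_add, fn_mk, fn_mk, fn_mk, ← map_add]
    congr 1; ext i; simp

theorem map_mk (f : ∀ i, B i →+* C i) (x : ∀ i, B i) : map U f (mk U x) = mk U fun i => f i (x i) :=
  fn_mk U _ x

theorem map_injective (f : ∀ i, B i →+* C i) (hf : ∀ i, Function.Injective (f i)) :
    Function.Injective (map U f) := by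
  rw [injective_iff_map_eq_zero]
  intro x hx
  obtain ⟨x, rfl⟩ := mk_surjective U x
  rw [map_mk, mk_eq_zero_iff] at hx
  rw [mk_eq_zero_iff]
  filter_upwards [hx] with i hi
  exact (map_eq_zero_iff (f i) (hf i)).mp hi

/-- the diagonal -/
noncomputable def diag (A : Type u) [CommRing A] : A →+* UProd U (fun _ : I => A) :=
  (mk U).comp (RingHom.pi fun _ => RingHom.id A)

theorem diag_apply (A : Type u) [CommRing A] (a : A) : diag U A a = mk U fun _ => a := rfl

theorem nontrivial [U.NeBot] [∀ i, Nontrivial (B i)] : Nontrivial (UProd U B) := by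
  refine ⟨1, 0, fun h => ?_⟩
  rw [← map_one (mk U), mk_eq_zero_iff] at h
  obtain ⟨i, hi⟩ := h.exists
  exact one_ne_zero hi

end basic

section ultra

variable {I : Type} (U : Ultrafilter I) {B : I → Type u} [∀ i, CommRing (B i)]

theorem isDomain [∀ i, IsDomain (B i)] : IsDomain (UProd (U : Filter I) B) := by
  have : Nontrivial (UProd (U : Filter I) B) := nontrivial _
  have : NoZeroDivisors (UProd (U : Filter I) B) := by
    refine ⟨fun {x y} h => ?_⟩
    obtain ⟨x, rfl⟩ := mk_surjective _ x
    obtain ⟨y, rfl⟩ := mk_surjective _ y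
    rw [← map_mul, mk_eq_zero_iff] at h
    rw [mk_eq_zero_iff, mk_eq_zero_iff, ← Ultrafilter.eventually_or]
    filter_upwards [h] with i hi
    exact mul_eq_zero.mp hi
  exact NoZeroDivisors.to_isDomain _

theorem isField (K : I → Type u) [∀ i, Field (K i)] : IsField (UProd (U : Filter I) K) := by
  have : Nontrivial (UProd (U : Filter I) K) := nontrivial _
  refine ⟨exists_pair_ne _, mul_comm, fun {x} hx => ?_⟩
  obtain ⟨x, rfl⟩ := mk_surjective _ x
  refine ⟨mk _ fun i => (x i)⁻¹, ?_⟩
  rw [mk_mul, ← mk_one, mk_eq_mk_iff]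
  rw [Ne, mk_eq_zero_iff, ← Ultrafilter.eventually_not] at hx
  filter_upwards [hx] with i hi
  exact mul_inv_cancel₀ hi

noncomputable instance field (K : Type u) [Field K] : Field (UProd (U : Filter I) (fun _ => K)) :=
  (isField U fun _ => K).toField

end ultra

section poly

variable {I : Type} (U : Ultrafilter I) (k : Type u) [Field k]

/-- the ultrapower of a field -/
abbrev R : Type u := UProd (U : Filter I) (fun _ => k)

/-- the ultrapower of the polynomial ring -/
abbrev Ps : Type u := UProd (U : Filter I) (fun _ => k[X])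

/-- the canonical map from polynomials over the ultrapower to the ultrapower of polynomials -/
noncomputable def rho : (R U k)[X] →+* Ps U k :=
  eval₂RingHom (map (U : Filter I) fun _ => C) (mk _ fun _ => X)

theorem rho_C (c : R U k) : rho U k (C c) = map (U : Filter I) (fun _ => C) c := by
  simp [rho]

theorem rho_X : rho U k X = mk (U : Filter I) fun _ => X := by
  simp [rho]

theorem rho_C_mk (c : I → k) : rho U k (C (mk _ c)) = mk (U : Filter I) fun i => C (c i) := by
  rw [rho_C, map_mk]

theorem rho_mk (s : Finset ℕ) (c : ℕ → I → k) :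
    rho U k (∑ n ∈ s, C (mk _ (c n)) * X ^ n) = mk (U : Filter I) fun i => ∑ n ∈ s, C (c n i) * X ^ n := by
  rw [map_sum, ← mk_sum]
  refine Finset.sum_congr rfl fun n _ => ?_
  rw [map_mul, map_pow, rho_C_mk, rho_X, ← map_pow, ← map_mul]
  rfl

theorem exists_rho {q : I → k[X]} {D : ℕ} (h : ∀ᶠ i in (U : Filter I), (q i).natDegree ≤ D) :
    ∃ p : (R U k)[X], rho U k p = mk _ q ∧ p.natDegree ≤ D := by
  refine ⟨∑ n ∈ Finset.range (D + 1), C (mk _ fun i => (q i).coeff n) * X ^ n, ?_, ?_⟩
  · rw [rho_mk, mk_eq_mk_iff]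
    filter_upwards [h] with i hi
    rw [(q i).as_sum_range' (D + 1) (by omega)]
    refine Finset.sum_congr rfl fun n hn => ?_
    rw [← C_mul_X_pow_eq_monomial, ← as_sum_range' (q i) (D + 1) (by omega)]
  · refine natDegree_sum_le_of_forall_le _ _ fun n hn => ?_
    refine (natDegree_C_mul_X_pow_le _ _).trans ?_
    rw [Finset.mem_range] at hn; omega

/-- every polynomial over the ultrapower lifts -/
theorem exists_lift (p : (R U k)[X]) : ∃ q : I → k[X], rho U k p = mk _ q ∧
    (∀ i, (q i).natDegree ≤ p.natDegree) ∧ ∀ n, p.coeff n = mk (U : Filter I) fun i => (q i).coeff n := by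
  refine ⟨fun i => ∑ n ∈ Finset.range (p.natDegree + 1), C (rep _ (p.coeff n) i) * X ^ n, ?_, ?_, ?_⟩
  · rw [← rho_mk]
    congr 1
    conv_lhs => rw [p.as_sum_range]
    refine Finset.sum_congr rfl fun n _ => ?_
    rw [mk_rep, C_mul_X_pow_eq_monomial]
  · intro i
    refine natDegree_sum_le_of_forall_le _ _ fun n hn => ?_
    refine (natDegree_C_mul_X_pow_le _ _).trans ?_
    rw [Finset.mem_range] at hn; omega
  · intro n
    have h : ∀ i, (∑ m ∈ Finset.range (p.natDegree + 1), C (rep _ (p.coeff m) i) * X ^ m : k[X]).coeff n =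
        if n ∈ Finset.range (p.natDegree + 1) then rep (U : Filter I) (p.coeff n) i else 0 := by
      intro i
      rw [finsetSum_coeff]
      simp only [coeff_C_mul_X_pow]
      rw [Finset.sum_ite_eq]
    simp only [h]
    by_cases hn : n ∈ Finset.range (p.natDegree + 1)
    · simp only [if_pos hn, mk_rep]
    · simp only [if_neg hn, mk_zero]
      rw [Finset.mem_range, not_lt] at hn
      exact coeff_eq_zero_of_natDegree_lt (by omega)

/-- the coefficient function -/
noncomputable def coeffU (n : ℕ) (x : Ps U k) : R U k := fn (U : Filter I) (fun _ q => q.coeff n) x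

theorem coeffU_rho (p : (R U k)[X]) (n : ℕ) : coeffU U k n (rho U k p) = p.coeff n := by
  obtain ⟨q, hq, -, hc⟩ := exists_lift U k p
  rw [hq, coeffU, fn_mk, hc]

theorem rho_injective : Function.Injective (rho U k) := by
  intro p q h
  ext n
  rw [← coeffU_rho, ← coeffU_rho, h]

/-- evaluation of an element of the ultrapower of the polynomial ring -/
noncomputable def evalU (c : I → k) : Ps U k →+* R U k :=
  map (U : Filter I) fun i => evalRingHom (c i)

theorem evalU_rho_X_sub_C (c : I → k) : evalU U k c (rho U k (X - C (mk _ c))) = 0 := by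
  rw [map_sub, rho_X, rho_C_mk, ← map_sub, evalU, map_mk, ← mk_zero, mk_eq_mk_iff]
  refine Filter.Eventually.of_forall fun i => ?_
  simp

theorem isAlgClosed [IsAlgClosed k] : IsAlgClosed (R U k) := by
  refine IsAlgClosed.of_exists_root _ fun p hp hirr => ?_
  obtain ⟨q, hq, hdeg, hc⟩ := exists_lift U k p
  have hpd : 0 < p.natDegree := Irreducible.natDegree_pos hirr
  -- almost all lifts have the right degree
  have h1 : ∀ᶠ i in (U : Filter I), (q i).coeff p.natDegree = 1 := by
    rw [← mk_eq_mk_iff, mk_one, ← hc]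
    exact hp
  have h2 : ∀ i, ∃ r : k, (q i).coeff p.natDegree = 1 → (q i).eval r = 0 := by
    intro i
    by_cases hi : (q i).coeff p.natDegree = 1
    · have h3 : (q i).natDegree = p.natDegree :=
        le_antisymm (hdeg i) (le_natDegree_of_ne_zero (by rw [hi]; exact one_ne_zero))
      obtain ⟨r, hr⟩ := IsAlgClosed.exists_root (q i) (fun h => by
        have h4 : (q i).natDegree = 0 := natDegree_eq_zero_iff_degree_le_zero.mpr h.le
        omega)
      exact ⟨r, fun _ => hr⟩
    · exact ⟨0, fun h => absurd h hi⟩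
  choose r hr using h2
  refine ⟨mk _ r, ?_⟩
  have h3 : p.eval (mk (U : Filter I) r) = mk (U : Filter I) fun i => (q i).eval (r i) := by
    rw [eval_eq_sum_range]
    have h4 : ∀ i, (q i).eval (r i) = ∑ n ∈ Finset.range (p.natDegree + 1), (q i).coeff n * r i ^ n := by
      intro i
      rw [eval_eq_sum_range' (n := p.natDegree + 1) (by have := hdeg i; omega)]
    simp only [h4]
    rw [← mk_sum]
    refine Finset.sum_congr rfl fun n _ => ?_
    rw [hc, ← map_pow, ← map_mul]
    rfl
  rw [h3, ← mk_zero, mk_eq_mk_iff]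
  filter_upwards [h1] with i hi
  exact hr i hi

/-- the canonical map `R[X] → Ps` is faithfully flat -/
theorem faithfullyFlat [IsAlgClosed k] : (rho U k).FaithfullyFlat := by
  have := isAlgClosed U k
  algebraize [rho U k]
  rw [RingHom.FaithfullyFlat]
  have hdom : IsDomain (Ps U k) := isDomain U
  have htf : Module.IsTorsionFree (R U k)[X] (Ps U k) := by
    have : FaithfulSMul (R U k)[X] (Ps U k) :=
      (faithfulSMul_iff_algebraMap_injective _ _).mpr (rho_injective U k)
    infer_instance
  have hflat : Module.Flat (R U k)[X] (Ps U k) := inferInstance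
  constructor
  intro m hm htop
  -- the maximal ideal is generated by `X - c`
  obtain ⟨p, rfl⟩ : ∃ p, m = Ideal.span {p} := (IsPrincipalIdealRing.principal m).1
  have hp0 : p ≠ 0 := by
    rintro rfl
    rw [Set.singleton_zero, Ideal.span_zero] at hm
    exact Polynomial.not_isField (R U k) (Ring.isField_iff_maximal_bot.mpr hm)
  have hpdeg : p.degree ≠ 0 := by
    intro h
    have h1 : IsUnit p := isUnit_iff_degree_eq_zero.mpr h
    exact hm.ne_top (Ideal.span_singleton_eq_top.mpr h1)
  obtain ⟨c, hc⟩ := IsAlgClosed.exists_root p hpdeg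
  obtain ⟨c', rfl⟩ := mk_surjective (U : Filter I) c
  have hdvd : X - C (mk (U : Filter I) c') ∣ p := dvd_iff_isRoot.mpr hc
  have h1 : (1 : Ps U k) ∈ Ideal.span {p} • (⊤ : Submodule (R U k)[X] (Ps U k)) := by
    rw [htop]; trivial
  have h2 : ∀ z ∈ Ideal.span {p} • (⊤ : Submodule (R U k)[X] (Ps U k)), evalU U k c' z = 0 := by
    intro z hz
    refine Submodule.smul_induction_on hz (fun r hr n _ => ?_) (fun x y hx hy => ?_)
    · obtain ⟨s, rfl⟩ := hdvd.trans (Ideal.mem_span_singleton.mp hr)
      rw [Algebra.smul_def, map_mul]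
      have h3 : (algebraMap (R U k)[X] (Ps U k)) ((X - C (mk (U : Filter I) c')) * s) =
        rho U k (X - C (mk (U : Filter I) c')) * rho U k s := map_mul _ _ _
      rw [h3, map_mul, evalU_rho_X_sub_C, zero_mul, zero_mul]
    · rw [map_add, hx, hy, add_zero]
  have h3 := h2 1 h1
  rw [map_one] at h3
  exact one_ne_zero h3

end poly

end Groth.Agent.Pi1.H388.UProd
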